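import Cfsg.Agent.H780.QBasB
set_option linter.all false

/-!
# S5176, section 5.5: coordinates in case (A8) (helper796)

Every element of `S` is uniquely `a^i d^j b^e w^f` with `i, j` modulo `2^m`, `e, f ∈ {0, 1}`, and the relations do not
depend on `S`: two groups of type (A8) with the same `m` are isomorphic.
-/
set_option autoImplicit false

namespace Cfsg.Agent.H796.Q
open Cfsg Cfsg.FusionSystem Cfsg.Agent.H752 Cfsg.Agent.H784.SF Cfsg.Agent.H784.Q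

universe u v

/-! ### The abstract relations -/

/-- The relations of the group (A8). -/
structure Rl {G : Type u} [Group G] (a b d w : G) (n : ℕ) : Prop where
  bb : b * b = a ^ n
  ww : w * w = a ^ n
  da : d * a = a * d
  ba : b * a = a⁻¹ * b
  bd : b * d = d * a⁻¹ * b
  wa : w * a = a * w
  wd : w * d = d⁻¹ * a * w
  wb : w * b = b * w

/-- The elements `a^i d^j g`, `g ∈ {1, b, w, b w}`. -/
def InT {G : Type u} [Group G] (a b d w x : G) : Prop :=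
  ∃ i j : ℤ, x = a ^ i * d ^ j ∨ x = a ^ i * d ^ j * b ∨ x = a ^ i * d ^ j * w ∨ x = a ^ i * d ^ j * (b * w)

section Abs

variable {G : Type u} [Group G] {a b d w : G} {n : ℕ}

theorem Rl.mulM (h : Rl a b d w n) (i j k l : ℤ) :
    a ^ i * d ^ j * (a ^ k * d ^ l) = a ^ (i + k) * d ^ (j + l) := by
  have hc : Commute d a := h.da
  have h1 : d ^ j * a ^ k = a ^ k * d ^ j := (hc.zpow_zpow j k).eq
  rw [zpow_add, zpow_add, mul_assoc, ← mul_assoc (d ^ j), h1]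
  simp only [mul_assoc]

theorem Rl.bM (h : Rl a b d w n) (i j : ℤ) : b * (a ^ i * d ^ j) = a ^ (-i - j) * d ^ j * b := by
  have h1 : SemiconjBy b a a⁻¹ := h.ba
  have h2 : SemiconjBy b d (d * a⁻¹) := h.bd
  have h3 := (h1.zpow_right i).eq
  have h4 := (h2.zpow_right j).eq
  have hc : Commute d a⁻¹ := Commute.inv_right h.da
  have h5 : (d * a⁻¹) ^ j = a⁻¹ ^ j * d ^ j := by
    rw [hc.mul_zpow]
    exact (hc.zpow_zpow j j).eq
  rw [← mul_assoc, h3, mul_assoc, h4, h5, ← mul_assoc, ← mul_assoc, inv_zpow', inv_zpow', ← zpow_add]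
  rfl

theorem Rl.wM (h : Rl a b d w n) (i j : ℤ) : w * (a ^ i * d ^ j) = a ^ (i + j) * d ^ (-j) * w := by
  have h1 : SemiconjBy w a a := h.wa
  have h2 : SemiconjBy w d (d⁻¹ * a) := h.wd
  have h3 := (h1.zpow_right i).eq
  have h4 := (h2.zpow_right j).eq
  have hc : Commute d⁻¹ a := Commute.inv_left h.da
  have h5 : (d⁻¹ * a) ^ j = a ^ j * d⁻¹ ^ j := by
    rw [hc.mul_zpow]
    exact (hc.zpow_zpow j j).eq
  rw [← mul_assoc, h3, mul_assoc, h4, h5, ← mul_assoc, ← mul_assoc, inv_zpow', ← zpow_add]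

theorem InT.mulM (h : Rl a b d w n) {x : G} (hx : InT a b d w x) (k l : ℤ) : InT a b d w (x * (a ^ k * d ^ l)) := by
  obtain ⟨i, j, h1 | h1 | h1 | h1⟩ := hx
  · exact ⟨i + k, j + l, Or.inl (by rw [h1, h.mulM])⟩
  · refine ⟨i + (-k - l), j + l, Or.inr (Or.inl ?_)⟩
    rw [h1, mul_assoc (a ^ i * d ^ j) b, h.bM, ← mul_assoc, h.mulM]
  · refine ⟨i + (k + l), j + -l, Or.inr (Or.inr (Or.inl ?_))⟩
    rw [h1, mul_assoc (a ^ i * d ^ j) w, h.wM, ← mul_assoc, h.mulM]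
  · refine ⟨i + (-(k + l) - -l), j + -l, Or.inr (Or.inr (Or.inr ?_))⟩
    rw [h1, mul_assoc (a ^ i * d ^ j), mul_assoc b w, h.wM, ← mul_assoc b, h.bM, mul_assoc _ b w, ← mul_assoc (a ^ i * d ^ j),
      h.mulM]

theorem InT.mulA (h : Rl a b d w n) {x : G} (hx : InT a b d w x) (k : ℕ) : InT a b d w (x * a ^ k) := by
  have h1 := hx.mulM h (k : ℤ) 0
  rwa [zpow_zero, mul_one, zpow_natCast] at h1

theorem InT.mulB (h : Rl a b d w n) {x : G} (hx : InT a b d w x) : InT a b d w (x * b) := by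
  obtain ⟨i, j, h1 | h1 | h1 | h1⟩ := hx
  · exact ⟨i, j, Or.inr (Or.inl (by rw [h1]))⟩
  · have h2 : InT a b d w (a ^ i * d ^ j) := ⟨i, j, Or.inl rfl⟩
    have h3 := h2.mulA h n
    rwa [h1, mul_assoc _ b b, h.bb]
  · exact ⟨i, j, Or.inr (Or.inr (Or.inr (by rw [h1, mul_assoc _ w b, h.wb])))⟩
  · have h2 : InT a b d w (a ^ i * d ^ j * w) := ⟨i, j, Or.inr (Or.inr (Or.inl rfl))⟩
    have h3 := h2.mulA h n
    have h4 : b * w * b = w * a ^ n := by rw [mul_assoc, h.wb, ← mul_assoc, h.bb]; exact ((show Commute w a from h.wa).pow_right n).eq.symm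
    rwa [h1, mul_assoc, h4, ← mul_assoc]

theorem InT.mulW (h : Rl a b d w n) {x : G} (hx : InT a b d w x) : InT a b d w (x * w) := by
  obtain ⟨i, j, h1 | h1 | h1 | h1⟩ := hx
  · exact ⟨i, j, Or.inr (Or.inr (Or.inl (by rw [h1])))⟩
  · exact ⟨i, j, Or.inr (Or.inr (Or.inr (by rw [h1, mul_assoc])))⟩
  · have h2 : InT a b d w (a ^ i * d ^ j) := ⟨i, j, Or.inl rfl⟩
    have h3 := h2.mulA h n
    rwa [h1, mul_assoc _ w w, h.ww]
  · have h2 : InT a b d w (a ^ i * d ^ j * b) := ⟨i, j, Or.inr (Or.inl rfl)⟩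
    have h3 := h2.mulA h n
    rwa [h1, mul_assoc _ (b * w) w, mul_assoc b w w, h.ww, ← mul_assoc]

theorem InT.mul (h : Rl a b d w n) {x y : G} (hx : InT a b d w x) (hy : InT a b d w y) : InT a b d w (x * y) := by
  obtain ⟨i, j, h1 | h1 | h1 | h1⟩ := hy
  · rw [h1]; exact hx.mulM h i j
  · rw [h1, ← mul_assoc]; exact (hx.mulM h i j).mulB h
  · rw [h1, ← mul_assoc]; exact (hx.mulM h i j).mulW h
  · rw [h1, ← mul_assoc, ← mul_assoc]; exact ((hx.mulM h i j).mulB h).mulW h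

theorem InT.one : InT a b d w 1 := ⟨0, 0, Or.inl (by rw [zpow_zero, zpow_zero, mul_one])⟩

theorem InT.ofM (i j : ℤ) : InT a b d w (a ^ i * d ^ j) := ⟨i, j, Or.inl rfl⟩

theorem InT.inB : InT a b d w b := ⟨0, 0, Or.inr (Or.inl (by rw [zpow_zero, zpow_zero, one_mul, one_mul]))⟩

theorem InT.inW : InT a b d w w := ⟨0, 0, Or.inr (Or.inr (Or.inl (by rw [zpow_zero, zpow_zero, one_mul, one_mul])))⟩

theorem InT.inA : InT a b d w a := ⟨1, 0, Or.inl (by rw [zpow_zero, zpow_one, mul_one])⟩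

theorem InT.inD : InT a b d w d := ⟨0, 1, Or.inl (by rw [zpow_zero, zpow_one, one_mul])⟩

theorem InT.inv (h : Rl a b d w n) {x : G} (hx : InT a b d w x) : InT a b d w x⁻¹ := by
  have hM : ∀ i j : ℤ, InT a b d w (a ^ i * d ^ j)⁻¹ := by
    intro i j
    refine ⟨-i, -j, Or.inl ?_⟩
    rw [inv_eq_iff_mul_eq_one, h.mulM, add_neg_cancel, add_neg_cancel, zpow_zero, zpow_zero, mul_one]
  have hb : InT a b d w b⁻¹ := by
    have h1 : b⁻¹ = a ^ (-(n : ℤ)) * d ^ (0 : ℤ) * b := by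
      rw [zpow_zero, mul_one, zpow_neg, zpow_natCast, ← h.bb, mul_inv_rev, mul_assoc, inv_mul_cancel, mul_one]
    exact ⟨_, _, Or.inr (Or.inl h1)⟩
  have hw : InT a b d w w⁻¹ := by
    have h1 : w⁻¹ = a ^ (-(n : ℤ)) * d ^ (0 : ℤ) * w := by
      rw [zpow_zero, mul_one, zpow_neg, zpow_natCast, ← h.ww, mul_inv_rev, mul_assoc, inv_mul_cancel, mul_one]
    exact ⟨_, _, Or.inr (Or.inr (Or.inl h1))⟩
  obtain ⟨i, j, h1 | h1 | h1 | h1⟩ := hx
  · rw [h1]; exact hM i j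
  · rw [h1, mul_inv_rev]; exact hb.mul h (hM i j)
  · rw [h1, mul_inv_rev]; exact hw.mul h (hM i j)
  · rw [h1, mul_inv_rev, mul_inv_rev]; exact (hw.mul h hb).mul h (hM i j)

theorem Rl.prod {G' : Type v} [Group G'] {a' b' d' w' : G'} (h : Rl a b d w n) (h' : Rl a' b' d' w' n) :
    Rl ((a, a') : G × G') (b, b') (d, d') (w, w') n where
  bb := Prod.ext h.bb h'.bb
  ww := Prod.ext h.ww h'.ww
  da := Prod.ext h.da h'.da
  ba := Prod.ext h.ba h'.ba
  bd := Prod.ext h.bd h'.bd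
  wa := Prod.ext h.wa h'.wa
  wd := Prod.ext h.wd h'.wd
  wb := Prod.ext h.wb h'.wb

end Abs

/-! ### The relations of a group of type (A8) -/

section Conc

variable {Ω : Type u} [Group Ω] {S : Subgroup Ω} {F : FusionSystem S} {R : Subgroup Ω} {a b z r : Ω} {m : ℕ}
  {t c d k w : Ω} {β : Ω → Ω}

theorem mem_M (hda : d * a = a * d) {x : Ω} : x ∈ Subgroup.zpowers a ⊔ Subgroup.zpowers d ↔ ∃ i j : ℤ, x = a ^ i * d ^ j := by
  constructor
  · intro hx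
    have hle : Subgroup.zpowers a ⊔ Subgroup.zpowers d = Subgroup.closure {a, d} := by
      rw [Subgroup.zpowers_eq_closure, Subgroup.zpowers_eq_closure, ← Subgroup.closure_union, Set.singleton_union]
    rw [hle] at hx
    have hc : Commute a d := hda.symm
    refine Subgroup.closure_induction (p := fun x _ => ∃ i j : ℤ, x = a ^ i * d ^ j) ?_ ?_ ?_ ?_ hx
    · rintro y (rfl | rfl)
      · exact ⟨1, 0, by simp⟩
      · exact ⟨0, 1, by simp⟩
    · exact ⟨0, 0, by simp⟩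
    · rintro _ _ _ _ ⟨i, j, rfl⟩ ⟨i', j', rfl⟩
      refine ⟨i + i', j + j', ?_⟩
      rw [zpow_add, zpow_add, mul_assoc, ← mul_assoc (d ^ j), ← (hc.zpow_zpow i' j).eq]
      simp only [mul_assoc]
    · rintro _ _ ⟨i, j, rfl⟩
      refine ⟨-i, -j, ?_⟩
      rw [mul_inv_rev, ← zpow_neg, ← zpow_neg, (hc.zpow_zpow (-i) (-j)).eq]
  · rintro ⟨i, j, rfl⟩
    exact mul_mem (Subgroup.mem_sup_left (Subgroup.zpow_mem _ (Subgroup.mem_zpowers a) i))
      (Subgroup.mem_sup_right (Subgroup.zpow_mem _ (Subgroup.mem_zpowers d) j))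

theorem comm_M (hda : d * a = a * d) {x y : Ω} (hx : x ∈ Subgroup.zpowers a ⊔ Subgroup.zpowers d)
    (hy : y ∈ Subgroup.zpowers a ⊔ Subgroup.zpowers d) : x * y = y * x := by
  obtain ⟨i, j, rfl⟩ := (mem_M hda).1 hx
  obtain ⟨i', j', rfl⟩ := (mem_M hda).1 hy
  have hc : Commute a d := hda.symm
  have hcx : Commute (a ^ i * d ^ j) (a ^ i' * d ^ j') :=
    (((Commute.refl a).zpow_zpow i i').mul_right (hc.zpow_zpow i j')).mul_left
      ((hc.symm.zpow_zpow j i').mul_right ((Commute.refl d).zpow_zpow j j'))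
  exact hcx.eq

theorem ne_sq {x : Ω} {m : ℕ} (hm : 3 ≤ m) (hx : orderOf x = 2 ^ m) : x ≠ x⁻¹ := by
  intro h
  have h1 : x ^ 2 = 1 := by rw [pow_two]; nth_rw 2 [h]; rw [mul_inv_cancel]
  have h2 := orderOf_dvd_of_pow_eq_one h1
  rw [hx] at h2
  have h3 := Nat.le_of_dvd (by norm_num) h2
  have h4 : 2 ^ 3 ≤ 2 ^ m := Nat.pow_le_pow_right (by norm_num) hm
  omega

variable (h : CaseA8 F R a b z r m t c d k w β)
include h

theorem aR : a ∈ R := h.sit.qr.aR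
theorem bR : b ∈ R := h.sit.qr.bR

theorem wS : w ∈ S := (Subgroup.mem_inf.1 h.wK).1

theorem w_comm {x : Ω} (hx : x ∈ R) : w * x = x * w := (Subgroup.mem_centralizer_iff.1 (Subgroup.mem_inf.1 h.wK).2 x hx).symm

theorem c_comm {x : Ω} (hx : x ∈ R) : c * x = x * c := (Subgroup.mem_centralizer_iff.1 (Subgroup.mem_inf.1 h.cK).2 x hx).symm

omit h in
theorem aM : a ∈ Subgroup.zpowers a ⊔ Subgroup.zpowers d := Subgroup.mem_sup_left (Subgroup.mem_zpowers a)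
omit h in
theorem dM : d ∈ Subgroup.zpowers a ⊔ Subgroup.zpowers d := Subgroup.mem_sup_right (Subgroup.mem_zpowers d)

omit h in
theorem pow_eq_inv {x y : Ω} (hx : orderOf x = 2 ^ m) (hy : orderOf y = 2 ^ m) {i : ℕ} (hi : x ^ i = x⁻¹) :
    y ^ i = y⁻¹ := by
  have h1 : x ^ (i + 1) = 1 := by rw [pow_succ, hi, inv_mul_cancel]
  have h2 := orderOf_dvd_of_pow_eq_one h1
  rw [hx, ← hy, orderOf_dvd_iff_pow_eq_one, pow_succ] at h2
  exact eq_inv_of_mul_eq_one_left h2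

theorem tt : t * t = 1 := by
  have hm := h.sit.qr.m3
  rw [h.td, ← pow_add, ← two_mul, ← pow_succ', Nat.sub_add_cancel (by omega), ← h.od, pow_orderOf_eq_one]

theorem rR : r ∈ R := by rw [h.sit.qr.hr]; exact pow_mem (aR h) _

theorem bw_t : b * w * t = t * (b * w) := by
  have h1 : SemiconjBy w k k⁻¹ := h.wk
  obtain ⟨i, hi⟩ := Subgroup.mem_zpowers_iff.1 h.ck
  have h2 : w * c = c⁻¹ * w := by
    have h3 := (h1.zpow_right i).eq
    rwa [hi, inv_zpow, hi] at h3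
  have h4 : SemiconjBy b a a⁻¹ := h.sit.qr.ba
  have h5 : b * r = r⁻¹ * b := by
    have h6 := (h4.pow_right (2 ^ (m - 2))).eq
    rwa [inv_pow, ← h.sit.qr.hr] at h6
  have h7 : b * c⁻¹ = c⁻¹ * b := (Commute.inv_left (show Commute c b from c_comm h (bR h))).eq.symm
  have h8 : t = r⁻¹ * c⁻¹ := by
    have h9 : t = t⁻¹ := eq_inv_of_mul_eq_one_left (tt h)
    rw [h9, h.tc, ← c_comm h (rR h), mul_inv_rev]
  calc b * w * t = b * (w * r) * c := by rw [h.tc]; simp only [mul_assoc]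
    _ = b * r * (w * c) := by rw [w_comm h (rR h)]; simp only [mul_assoc]
    _ = r⁻¹ * (b * c⁻¹) * w := by rw [h5, h2]; simp only [mul_assoc]
    _ = t * (b * w) := by rw [h7, h8]; simp only [mul_assoc]

theorem bw_CS : b * w ∈ CS S t := by
  refine Subgroup.mem_inf.2 ⟨mul_mem (h.sit.RS (bR h)) (wS h), Subgroup.mem_centralizer_iff.2 ?_⟩
  rintro y hy
  obtain ⟨i, rfl⟩ := Subgroup.mem_zpowers_iff.1 hy
  exact ((show Commute t (b * w) from (bw_t h).symm).zpow_left i).eq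

theorem bw_d : b * w * d = d⁻¹ * (b * w) := by
  obtain ⟨i, hi⟩ := h.pow _ (bw_CS h)
  have h1 := hi a aM
  have h2 : b * w * a = a⁻¹ * (b * w) := by
    rw [mul_assoc, w_comm h (aR h), ← mul_assoc, h.sit.qr.ba, mul_assoc]
  rw [h2, mul_inv_cancel_right] at h1
  have h3 := hi d dM
  rw [pow_eq_inv h.sit.qr.oa h.od h1.symm] at h3
  rw [← h3, inv_mul_cancel_right]

theorem rel_wd : w * d = d⁻¹ * a * w := by
  have h1 : SemiconjBy b d (d * a⁻¹) := h.bd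
  have h2 : b * d⁻¹ = a * d⁻¹ * b := by
    have h3 := h1.inv_right.eq
    rwa [mul_inv_rev, inv_inv] at h3
  have h4 : b * (d⁻¹ * a * w) = d⁻¹ * b * w := by
    rw [← mul_assoc, ← mul_assoc, h2, mul_assoc _ b a, h.sit.qr.ba]
    have h5 : a * d⁻¹ = d⁻¹ * a := ((show Commute d a from h.da).inv_left).eq.symm
    rw [h5]
    simp only [mul_assoc, mul_inv_cancel_left]
  apply mul_left_cancel (a := b)
  rw [h4, ← mul_assoc, bw_d h, mul_assoc]

theorem rel : Rl a b d w (2 ^ (m - 1)) where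
  bb := by rw [h.sit.qr.bb, h.sit.qr.hz]
  ww := by rw [h.ww, h.sit.qr.hz]
  da := h.da
  ba := h.sit.qr.ba
  bd := h.bd
  wa := w_comm h (aR h)
  wd := rel_wd h
  wb := w_comm h (bR h)

theorem b_out : b ∉ Subgroup.zpowers a ⊔ Subgroup.zpowers d := by
  intro hb
  have h1 := comm_M h.da hb aM
  rw [h.sit.qr.ba] at h1
  exact ne_sq h.sit.qr.m3 h.sit.qr.oa (mul_right_cancel h1).symm

theorem bw_out : b * w ∉ Subgroup.zpowers a ⊔ Subgroup.zpowers d := by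
  intro hb
  have h1 := comm_M h.da hb aM
  rw [mul_assoc, w_comm h (aR h), ← mul_assoc, h.sit.qr.ba, mul_assoc] at h1
  exact ne_sq h.sit.qr.m3 h.sit.qr.oa (mul_right_cancel h1).symm

theorem w_out : w ∉ Subgroup.zpowers a ⊔ Subgroup.zpowers d := by
  intro hb
  have hk : k ∈ Subgroup.zpowers a ⊔ Subgroup.zpowers d := by
    rw [h.hk]
    exact mul_mem (mul_mem dM dM) (inv_mem aM)
  have h1 := comm_M h.da hb hk
  rw [h.wk] at h1
  exact ne_sq h.sit.qr.m3 h.ok (mul_right_cancel h1).symm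

/-- uniqueness of the coordinates in `M` -/
theorem coord_one {i j : ℤ} (h1 : a ^ i * d ^ j = 1) : ((2 ^ m : ℕ) : ℤ) ∣ i ∧ ((2 ^ m : ℕ) : ℤ) ∣ j := by
  have h2 : a ^ i = d ^ (-j) := by rw [zpow_neg]; exact eq_inv_of_mul_eq_one_left h1
  have h3 : a ^ i ∈ Subgroup.zpowers a ⊓ Subgroup.zpowers d :=
    Subgroup.mem_inf.2 ⟨Subgroup.zpow_mem _ (Subgroup.mem_zpowers a) i, by
      rw [h2]; exact Subgroup.zpow_mem _ (Subgroup.mem_zpowers d) _⟩
  rw [h.disj, Subgroup.mem_bot] at h3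
  have h4 : d ^ j = 1 := by rwa [h3, one_mul] at h1
  refine ⟨?_, ?_⟩
  · rw [← h.sit.qr.oa]; exact orderOf_dvd_iff_zpow_eq_one.2 h3
  · rw [← h.od]; exact orderOf_dvd_iff_zpow_eq_one.2 h4

theorem gen {s : Ω} (hs : s ∈ S) : InT a b d w s := by
  obtain ⟨x, hx, h1⟩ := h.gen s hs
  obtain ⟨i, j, rfl⟩ := (mem_M h.da).1 hx
  exact ⟨i, j, h1⟩

theorem mem_S {s : Ω} (hs : InT a b d w s) : s ∈ S := by
  have ha : a ∈ S := h.sit.RS (aR h)
  have hb : b ∈ S := h.sit.RS (bR h)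
  have hd : d ∈ S := (Subgroup.mem_inf.1 h.dC).1
  have hw : w ∈ S := wS h
  obtain ⟨i, j, rfl | rfl | rfl | rfl⟩ := hs
  · exact mul_mem (zpow_mem ha i) (zpow_mem hd j)
  · exact mul_mem (mul_mem (zpow_mem ha i) (zpow_mem hd j)) hb
  · exact mul_mem (mul_mem (zpow_mem ha i) (zpow_mem hd j)) hw
  · exact mul_mem (mul_mem (zpow_mem ha i) (zpow_mem hd j)) (mul_mem hb hw)

end Conc

/-! ### The isomorphism -/

section Two

variable {Ω : Type u} [Group Ω] {S : Subgroup Ω} {F : FusionSystem S} {R : Subgroup Ω} {a b z r : Ω} {m : ℕ}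
  {t c d k w : Ω} {β : Ω → Ω}
variable {Ω' : Type v} [Group Ω'] {S' : Subgroup Ω'} {F' : FusionSystem S'} {R' : Subgroup Ω'} {a' b' z' r' : Ω'}
    {t' c' d' k' w' : Ω'} {β' : Ω' → Ω'}

/-- `x` and `y` have the same coordinates -/
def Rel (a b d w : Ω) (a' b' d' w' : Ω') (x : Ω) (y : Ω') : Prop :=
  InT ((a, a') : Ω × Ω') (b, b') (d, d') (w, w') (x, y)

theorem Rel.symm {x : Ω} {y : Ω'} (h : Rel a b d w a' b' d' w' x y) : Rel a' b' d' w' a b d w y x := by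
  obtain ⟨i, j, h1⟩ := h
  refine ⟨i, j, ?_⟩
  have key : ∀ {p q : Ω × Ω'}, p = q → (p.2, p.1) = (q.2, q.1) := fun e => by rw [e]
  rcases h1 with h1 | h1 | h1 | h1
  · exact Or.inl (key h1)
  · exact Or.inr (Or.inl (key h1))
  · exact Or.inr (Or.inr (Or.inl (key h1)))
  · exact Or.inr (Or.inr (Or.inr (key h1)))

theorem Rel.left {x : Ω} {y : Ω'} (h : Rel a b d w a' b' d' w' x y) : InT a b d w x := by
  obtain ⟨i, j, h1⟩ := h
  refine ⟨i, j, ?_⟩
  rcases h1 with h1 | h1 | h1 | h1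
  · exact Or.inl (congrArg Prod.fst h1)
  · exact Or.inr (Or.inl (congrArg Prod.fst h1))
  · exact Or.inr (Or.inr (Or.inl (congrArg Prod.fst h1)))
  · exact Or.inr (Or.inr (Or.inr (congrArg Prod.fst h1)))

theorem exists_rel {x : Ω} (h : InT a b d w x) : ∃ y : Ω', Rel a b d w a' b' d' w' x y := by
  obtain ⟨i, j, h1 | h1 | h1 | h1⟩ := h
  · exact ⟨a' ^ i * d' ^ j, i, j, Or.inl (Prod.ext h1 rfl)⟩
  · exact ⟨a' ^ i * d' ^ j * b', i, j, Or.inr (Or.inl (Prod.ext h1 rfl))⟩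
  · exact ⟨a' ^ i * d' ^ j * w', i, j, Or.inr (Or.inr (Or.inl (Prod.ext h1 rfl)))⟩
  · exact ⟨a' ^ i * d' ^ j * (b' * w'), i, j, Or.inr (Or.inr (Or.inr (Prod.ext h1 rfl)))⟩

variable (h : CaseA8 F R a b z r m t c d k w β) (h' : CaseA8 F' R' a' b' z' r' m t' c' d' k' w' β')
include h h'

theorem Rel.one {y : Ω'} (hr : Rel a b d w a' b' d' w' 1 y) : y = 1 := by
  obtain ⟨i, j, h1⟩ := hr
  have hm : a ^ i * d ^ j ∈ Subgroup.zpowers a ⊔ Subgroup.zpowers d := (mem_M h.da).2 ⟨i, j, rfl⟩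
  have key : ∀ g : Ω, 1 = a ^ i * d ^ j * g → g ∈ Subgroup.zpowers a ⊔ Subgroup.zpowers d := by
    intro g hg
    have h2 : g = (a ^ i * d ^ j)⁻¹ := eq_inv_of_mul_eq_one_right hg.symm
    rw [h2]; exact inv_mem hm
  rcases h1 with h1 | h1 | h1 | h1
  · have h2 : (1 : Ω) = a ^ i * d ^ j := congrArg Prod.fst h1
    have h3 : y = a' ^ i * d' ^ j := congrArg Prod.snd h1
    obtain ⟨h4, h5⟩ := coord_one h h2.symm
    rw [← h'.sit.qr.oa] at h4
    rw [← h'.od] at h5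
    rw [h3, orderOf_dvd_iff_zpow_eq_one.1 h4, orderOf_dvd_iff_zpow_eq_one.1 h5, mul_one]
  · exact absurd (key b (congrArg Prod.fst h1)) (b_out h)
  · exact absurd (key w (congrArg Prod.fst h1)) (w_out h)
  · exact absurd (key (b * w) (congrArg Prod.fst h1)) (bw_out h)

theorem Rel.mul {x₁ x₂ : Ω} {y₁ y₂ : Ω'} (h1 : Rel a b d w a' b' d' w' x₁ y₁) (h2 : Rel a b d w a' b' d' w' x₂ y₂) :
    Rel a b d w a' b' d' w' (x₁ * x₂) (y₁ * y₂) := InT.mul ((rel h).prod (rel h')) h1 h2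

theorem Rel.inv {x₁ : Ω} {y₁ : Ω'} (h1 : Rel a b d w a' b' d' w' x₁ y₁) :
    Rel a b d w a' b' d' w' x₁⁻¹ y₁⁻¹ := InT.inv ((rel h).prod (rel h')) h1

theorem Rel.uniq {x : Ω} {y₁ y₂ : Ω'} (h1 : Rel a b d w a' b' d' w' x y₁) (h2 : Rel a b d w a' b' d' w' x y₂) :
    y₁ = y₂ := by
  have h3 := Rel.mul h h' h1 (Rel.inv h h' h2)
  rw [mul_inv_cancel] at h3
  exact mul_inv_eq_one.1 (Rel.one h h' h3)

omit h h' in
/-- one half of the isomorphism -/
theorem exists_fun (h : CaseA8 F R a b z r m t c d k w β) (a' b' d' w' : Ω') :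
    ∃ j : Ω → Ω', ∀ x ∈ S, Rel a b d w a' b' d' w' x (j x) := by
  classical
  refine ⟨fun x => if hx : ∃ y : Ω', Rel a b d w a' b' d' w' x y then hx.choose else 1, fun x hx => ?_⟩
  have h1 : ∃ y : Ω', Rel a b d w a' b' d' w' x y := exists_rel (Cfsg.Agent.H796.Q.gen h hx)
  simp only [dif_pos h1]
  exact h1.choose_spec

end Two

end Cfsg.Agent.H796.Q

namespace Cfsg.Agent.H784.Q
open Cfsg Cfsg.FusionSystem Cfsg.Agent.H752 Cfsg.Agent.H784.SF Cfsg.Agent.H796.Q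

universe u v

variable {Ω : Type u} [Group Ω] {S : Subgroup Ω} {F : FusionSystem S} {R : Subgroup Ω} {a b z r : Ω} {m : ℕ}
  {t c d k w : Ω} {β : Ω → Ω}
variable {Ω' : Type v} [Group Ω'] {S' : Subgroup Ω'} {F' : FusionSystem S'} {R' : Subgroup Ω'} {a' b' z' r' : Ω'}
    {t' c' d' k' w' : Ω'} {β' : Ω' → Ω'}

theorem CaseA8.exists_iso (h : CaseA8 F R a b z r m t c d k w β) (h' : CaseA8 F' R' a' b' z' r' m t' c' d' k' w' β') :
    ∃ (j : Ω → Ω') (j' : Ω' → Ω), (∀ x ∈ S, j x ∈ S') ∧ (∀ y ∈ S', j' y ∈ S) ∧ (∀ x ∈ S, j' (j x) = x) ∧ (∀ y ∈ S', j (j' y) = y) ∧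
      (∀ x ∈ S, ∀ y ∈ S, j (x * y) = j x * j y) ∧ (∀ x ∈ S', ∀ y ∈ S', j' (x * y) = j' x * j' y) ∧
      j a = a' ∧ j b = b' ∧ j d = d' ∧ j w = w' ∧ j' a' = a ∧ j' b' = b ∧ j' d' = d ∧ j' w' = w := by
  obtain ⟨j, hj⟩ := exists_fun h a' b' d' w'
  obtain ⟨j', hj'⟩ := exists_fun h' a b d w
  have m1 : ∀ x ∈ S, j x ∈ S' := fun x hx => mem_S h' (hj x hx).symm.left
  have m2 : ∀ y ∈ S', j' y ∈ S := fun y hy => mem_S h (hj' y hy).symm.left
  have q1 : ∀ x ∈ S, j' (j x) = x := fun x hx => Rel.uniq h' h (hj' _ (m1 x hx)) (hj x hx).symm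
  have q2 : ∀ y ∈ S', j (j' y) = y := fun y hy => Rel.uniq h h' (hj _ (m2 y hy)) (hj' y hy).symm
  have p1 : ∀ x ∈ S, ∀ y ∈ S, j (x * y) = j x * j y := fun x hx y hy =>
    Rel.uniq h h' (hj _ (mul_mem hx hy)) (Rel.mul h h' (hj x hx) (hj y hy))
  have p2 : ∀ x ∈ S', ∀ y ∈ S', j' (x * y) = j' x * j' y := fun x hx y hy =>
    Rel.uniq h' h (hj' _ (mul_mem hx hy)) (Rel.mul h' h (hj' x hx) (hj' y hy))
  have ea : j a = a' := Rel.uniq h h' (hj a (mem_S h InT.inA)) InT.inA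
  have eb : j b = b' := Rel.uniq h h' (hj b (mem_S h InT.inB)) InT.inB
  have ed : j d = d' := Rel.uniq h h' (hj d (mem_S h InT.inD)) InT.inD
  have ew : j w = w' := Rel.uniq h h' (hj w (mem_S h InT.inW)) InT.inW
  refine ⟨j, j', m1, m2, q1, q2, p1, p2, ea, eb, ed, ew, ?_, ?_, ?_, ?_⟩
  · rw [← ea, q1 a (mem_S h InT.inA)]
  · rw [← eb, q1 b (mem_S h InT.inB)]
  · rw [← ed, q1 d (mem_S h InT.inD)]
  · rw [← ew, q1 w (mem_S h InT.inW)]

end Cfsg.Agent.H784.Q
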